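import Cfsg.Agent.H272.SK.HNCore
import Cfsg.Agent.H991.RegBabyElt
import Cfsg.Agent.BpSpor.MBigEleven
import Cfsg.Agent.CpAutMSeven.Ranks
import Cfsg.Agent.H149.Sp.Leech

/-!
# S3010 (Sidki pairs), row `B`: the class `2B` (helper272)

In the Monster an involution `u` of the class `2A` inverts an element `x` of order 5 with `C(x) = ⟨x⟩ × C(u, x)`,
`C(u, x) ≅ HN`; a further involution `t` of the class `2A` centralizes `⟨u, x⟩` and `C(t, u, x) ≅ 2.HS.2`. Modulo `t`
we get `O_2(C(u) ∩ C(x)) = 1`.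
-/

set_option autoImplicit false
set_option maxRecDepth 100000

namespace Cfsg.Agent.H272.SK

open Subgroup Cfsg
open Cfsg.Agent.LThreeMB (fr XX Zx mk exists_mk mk_eq_mk)
open Cfsg.Agent.MonsterX Cfsg.Agent.MonsterX.Model Cfsg.Agent.MonsterX.MainSimple Cfsg.Agent.MonsterX.MainPack
open Cfsg.Agent.MonsterX.MainBasic Cfsg.Agent.MonsterU Cfsg.Agent.MonsterU.Lam2
open Cfsg.Agent.MonsterP Cfsg.Agent.MonsterN Cfsg.Agent.MonsterN.LitInst
open Cfsg.Agent.BpSpor.MBigModel
open Cfsg.Agent.LThreeB.Row (TA)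
open Cfsg.Spor (Co1)

theorem fr_sq {s : Co1} (hs : s ^ 5 = 1) : fr (s ^ 2) = fr s := by
  unfold fr
  apply Nat.card_congr
  refine Equiv.subtypeEquivRight fun v => ⟨fun h => ?_, fun h => ?_⟩
  · have h1 : s = (s ^ 2) * ((s ^ 2) * (s ^ 2)) := by
      calc s = s ^ 5 * s := by rw [hs, one_mul]
        _ = (s ^ 2) * ((s ^ 2) * (s ^ 2)) := by rw [← pow_add, ← pow_add, ← pow_succ]
    rw [h1, mul_smul, mul_smul, h, h, h]
  · rw [pow_two, mul_smul, h, h]

/-- an element of order 5 of the Monster conjugate to its square, `C(x) / ⟨x⟩ ≅ HN` -/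
theorem exists_x : ∃ x n : MG, orderOf x = 5 ∧ n * x * n⁻¹ = x ^ 2 ∧ Spor.IsoHN (XX x) := by
  have := simple
  have := finite
  have hs : orderOf (QuotientGroup.mk CoFive.Class.r8 : Co1) = 5 := by
    have : Fact (Nat.Prime 5) := ⟨Nat.prime_five⟩
    exact CpAutMSeven.Ranks.orderOf_mk (by norm_num) CoFive.Class.order_r8
  obtain ⟨x, hx, hxs⟩ := MFive.KPair.exists_order chart Nat.prime_five (by decide) hs
  have hfr : fr (pi x) = 2 ^ 8 := by rw [hxs, CoFive.Ranks.fr_r8]
  have hx5 : x ^ 5 = 1 := by rw [← hx, pow_orderOf_eq_one]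
  have hx25 : (x ^ 2) ^ 5 = 1 := by rw [← pow_mul, mul_comm, pow_mul, hx5, one_pow]
  have ho : orderOf (x ^ 2) = 5 := by
    rw [Nat.Coprime.orderOf_pow (by rw [hx]; decide), hx]
  have hp1 := MFive.orderOf_pi chart Nat.prime_five (by decide) hx
  have hp2 := MFive.orderOf_pi chart Nat.prime_five (by decide) ho
  obtain ⟨k, hk⟩ := CoFive.Ranks.classOf _ (pi x) (pi (x ^ 2)) hp1 hp2 hfr
    (by rw [map_pow, fr_sq (by rw [← hp1, pow_orderOf_eq_one]), hfr])
  obtain ⟨c, hc⟩ := MFive.exists_conj_of_conj chart Nat.prime_five (by decide) hx5 hx25 hk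
  refine ⟨x, c, by rw [Subgroup.orderOf_coe, hx], ?_, MFiveHN.Closed.hnEight chart x hx hfr⟩
  exact congrArg Subtype.val hc

/-- an involution commuting with commuting elements of orders 5 and 11 is in the class `2A` -/
theorem ta_of_five_eleven {t x y : MG} (ht : orderOf t = 2) (hx : orderOf x = 5) (hy : orderOf y = 11)
    (hxt : x * t = t * x) (hyt : y * t = t * y) (hxy : x * y = y * x) : TA t := by
  have := finite
  rcases cls ht with ⟨g, hg⟩ | h
  · exfalso
    have hc : ∀ {a : MG}, a * t = t * a → (g⁻¹ * a * g) * zz = zz * (g⁻¹ * a * g) := by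
      intro a ha
      rw [← hg] at ha
      calc (g⁻¹ * a * g) * zz = g⁻¹ * (a * (g * zz * g⁻¹)) * g := by group
        _ = g⁻¹ * ((g * zz * g⁻¹) * a) * g := by rw [ha]
        _ = zz * (g⁻¹ * a * g) := by group
    have ho : ∀ a : MG, orderOf (g⁻¹ * a * g) = orderOf a := by
      intro a
      have e : g⁻¹ * a * g = MulAut.conj g⁻¹ a := by rw [MulAut.conj_apply, inv_inv]
      rw [e, MulEquiv.orderOf_eq]
    let x' : centralizer ({zz} : Set MG) := ⟨g⁻¹ * x * g, mem_centralizer_singleton_iff.2 (hc hxt)⟩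
    let y' : centralizer ({zz} : Set MG) := ⟨g⁻¹ * y * g, mem_centralizer_singleton_iff.2 (hc hyt)⟩
    have hx' : orderOf x' = 5 := by rw [← Subgroup.orderOf_coe]; exact (ho x).trans hx
    have hy' : orderOf y' = 11 := by rw [← Subgroup.orderOf_coe]; exact (ho y).trans hy
    have h1 := MFive.orderOf_pi chart Nat.prime_five (by decide) hx'
    have h2 := MFive.orderOf_pi chart (by norm_num : Nat.Prime 11) (by decide) hy'
    refine H149.Sp.co1_not_comm (p := 5) (q := 11) (Or.inl rfl) (Or.inr (Or.inr (Or.inl rfl))) (by norm_num)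
      (by norm_num) h1 h2 ?_
    rw [← map_mul, ← map_mul]
    congr 1
    apply Subtype.ext
    show g⁻¹ * x * g * (g⁻¹ * y * g) = g⁻¹ * y * g * (g⁻¹ * x * g)
    calc g⁻¹ * x * g * (g⁻¹ * y * g) = g⁻¹ * (x * y) * g := by group
      _ = g⁻¹ * (y * x) * g := by rw [hxy]
      _ = _ := by group
  · exact h

open Cfsg.Agent.HN Cfsg.Agent.HN.Pres Cfsg.Agent.HN.HS100 Cfsg.Agent.HN.H0Basic in
/-- **The configuration in the Monster.** -/
theorem exists_cfg : ∃ (s x : MG) (θ : H0 →* MG), Spl s x ∧ orderOf x = 5 ∧ TA s ∧ TA (θ τ) ∧ Function.Injective θ ∧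
    (∀ h, θ h * s = s * θ h) ∧ (∀ h, θ h * x = x * θ h) ∧ (∀ h, θ h * θ τ = θ τ * θ h) ∧
    ∀ g : MG, g * s = s * g → g * x = x * g → g * θ τ = θ τ * g → ∃ h, θ h = g := by
  have := finite
  obtain ⟨x, n, hx, hn, ⟨e⟩⟩ := exists_x
  have hcen : center (XX x) = ⊥ := by
    rw [Subgroup.eq_bot_iff_forall]
    intro y hy
    have h2 : e y ∈ center Cfsg.Spor.HN := by
      rw [Subgroup.mem_center_iff] at hy ⊢
      intro g
      have := congrArg e (hy (e.symm g))
      rwa [map_mul, map_mul, e.apply_symm_apply] at this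
    rw [center_hn, Subgroup.mem_bot] at h2
    exact e.injective (by rw [h2, map_one])
  obtain ⟨s, hs⟩ := exists_five hx hn (sq_inner_congr e sq_inner) hcen
  obtain ⟨f, hf⟩ := hs.iso
  let L : Subgroup MG := centralizer ({s} : Set MG) ⊓ centralizer ({x} : Set MG)
  let θ : H0 →* MG := L.subtype.comp (f.symm.toMonoidHom.comp (e.symm.toMonoidHom.comp NormalH.ψ))
  have hθ : ∀ h, θ h = ((f.symm (e.symm (NormalH.ψ h)) : L) : MG) := fun h => rfl
  have hinj : Function.Injective θ := by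
    intro a b hab
    rw [hθ, hθ] at hab
    exact KFacts.HN.emb.inj (e.symm.injective (f.symm.injective (Subtype.ext hab)))
  have hL : ∀ h, θ h ∈ L := fun h => (f.symm (e.symm (NormalH.ψ h))).2
  have hls : ∀ h, θ h * s = s * θ h := fun h => mem_centralizer_singleton_iff.1 (mem_inf.1 (hL h)).1
  have hlx : ∀ h, θ h * x = x * θ h := fun h => mem_centralizer_singleton_iff.1 (mem_inf.1 (hL h)).2
  have hlt : ∀ h, θ h * θ τ = θ τ * θ h := by
    intro h
    rw [← map_mul, ← map_mul, τ_comm]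
  have htau : orderOf (θ τ) = 2 := by
    have : Fact (Nat.Prime 2) := ⟨Nat.prime_two⟩
    refine orderOf_eq_prime ?_ ?_
    · rw [← map_pow, pow_two, τ_mul_τ, map_one]
    · intro h
      exact KFacts.HN.emb.ne (hinj (h.trans (map_one θ).symm))
  have hTs : TA s := by
    have h2 : orderOf s = 2 := by
      have : Fact (Nat.Prime 2) := ⟨Nat.prime_two⟩
      exact orderOf_eq_prime (by rw [pow_two, hs.sq]) hs.ne
    rcases cls h2 with ⟨g, hg⟩ | h
    · exfalso
      have h3 : Nat.card L = 273030912000000 := by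
        rw [Nat.card_congr (f.trans e).toEquiv, Cfsg.Agent.S1701.result.2]
      have h4 := Subgroup.card_dvd_of_le (inf_le_left : L ≤ centralizer ({s} : Set MG))
      rw [h3, BpSpor.card_cent_of_conj hg, card_cent_z] at h4
      have h5 : 19 ∣ 2 ^ 25 * 4157776806543360000 := dvd_trans (by norm_num) h4
      norm_num at h5
    · exact h
  have hTt : TA (θ τ) := by
    have hfin : Finite H0 := H0Basic.finite_H0
    have : Fact (Nat.Prime 11) := ⟨by norm_num⟩
    have h11 : 11 ∣ Nat.card H0 := by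
      have h1 := Subgroup.card_subgroup_dvd_card K
      rw [CTwoTab.HN.card_K] at h1
      exact dvd_trans (by norm_num) h1
    obtain ⟨y, hy⟩ := exists_prime_orderOf_dvd_card' (G := H0) 11 h11
    have hy' : orderOf (θ y) = 11 := by rw [orderOf_injective θ hinj, hy]
    exact ta_of_five_eleven htau hx hy' (hlx τ).symm (hlt y) (hlx y).symm
  refine ⟨s, x, θ, hs, hx, hTs, hTt, hinj, hls, hlx, hlt, ?_⟩
  intro g hgs hgx hgt
  have hgL : g ∈ L := mem_inf.2 ⟨mem_centralizer_singleton_iff.2 hgs, mem_centralizer_singleton_iff.2 hgx⟩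
  have h1 : (⟨g, hgL⟩ : L) * f.symm (e.symm (NormalH.ψ τ)) = f.symm (e.symm (NormalH.ψ τ)) * ⟨g, hgL⟩ :=
    Subtype.ext hgt
  have h2 := congrArg e (congrArg f h1)
  rw [map_mul, map_mul, map_mul, map_mul, f.apply_symm_apply, e.apply_symm_apply] at h2
  obtain ⟨h, hh⟩ := KFacts.HN.emb.cent _ h2
  refine ⟨h, ?_⟩
  rw [hθ]
  have h3 : f.symm (e.symm (NormalH.ψ h)) = ⟨g, hgL⟩ := by
    rw [hh, e.symm_apply_apply, f.symm_apply_apply]
  exact congrArg Subtype.val h3

/-- **The class `2B` of the Baby Monster.** -/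
theorem exists_two {q : BB KDone.K KLinkInst.x₀ →* Spor.BabyMonster}
    (hq : Cfsg.Agent.R01.Lifts.Ext q (tb KDone.K KLinkInst.x₀)) :
    ∃ u x : BB KDone.K KLinkInst.x₀, u * u = 1 ∧
      IsConj (tb KDone.K KLinkInst.x₀ : InstData.M.G) (u : InstData.M.G) ∧ orderOf x = 5 ∧ u * x * u⁻¹ = x⁻¹ ∧
      H282.SK.O2 (centralizer ({q u} : Set Spor.BabyMonster) ⊓ centralizer ({q x} : Set Spor.BabyMonster)) = ⊥ := by
  obtain ⟨s, x, θ, hs, hx, hTs, hTt, hinj, hls, hlx, hlt, hsurj⟩ := exists_cfg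
  have hT0 : TA (KDone.K.ι KLinkInst.x₀) := LThreeB.Par.ta_iota LitFin.all KDone.lnk KDone.lft
  have hT0' : IsConj (tG LitFin.all.hG LitFin.all.hR) (KDone.K.ι KLinkInst.x₀) := hT0
  have hTt' : IsConj (tG LitFin.all.hG LitFin.all.hR) (θ Cfsg.Agent.HN.H0Basic.τ) := hTt
  have hTs' : IsConj (tG LitFin.all.hG LitFin.all.hR) s := hTs
  obtain ⟨c, hc⟩ := isConj_iff.1 (hTt'.symm.trans hT0')
  -- conjugation by `c`
  let γ : MG ≃* MG := MulAut.conj c
  have hγ : ∀ a, γ a = c * a * c⁻¹ := fun a => rfl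
  have hτ : γ (θ Cfsg.Agent.HN.H0Basic.τ) = KDone.K.ι KLinkInst.x₀ := hc
  have hst : γ s * KDone.K.ι KLinkInst.x₀ = KDone.K.ι KLinkInst.x₀ * γ s := by
    rw [← hτ, ← map_mul, ← map_mul, hls]
  have hxt : γ x * KDone.K.ι KLinkInst.x₀ = KDone.K.ι KLinkInst.x₀ * γ x := by
    rw [← hτ, ← map_mul, ← map_mul, hlx]
  let u' : BB KDone.K KLinkInst.x₀ := ⟨γ s, mem_centralizer_singleton_iff.2 hst⟩
  let x' : BB KDone.K KLinkInst.x₀ := ⟨γ x, mem_centralizer_singleton_iff.2 hxt⟩
  have hx' : orderOf x' = 5 := by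
    rw [← Subgroup.orderOf_coe]
    exact (MulEquiv.orderOf_eq γ x).trans hx
  have hfinB : Finite Spor.BabyMonster := Nat.finite_of_card_ne_zero (by rw [BM.KHAll.card_B]; norm_num)
  refine ⟨u', x', Subtype.ext ?_, ?_, hx', Subtype.ext ?_, ?_⟩
  · show γ s * γ s = 1
    rw [← map_mul, hs.sq, map_one]
  · exact (hT0'.symm.trans hTs').trans (isConj_iff.2 ⟨c, rfl⟩)
  · show γ s * γ x * (γ s)⁻¹ = (γ x)⁻¹
    rw [← map_inv, ← map_mul, ← map_mul, hs.inv, map_inv]
  · refine core_bot hq rfl (u := u') (x := x') hx' ?_ (γ.toMonoidHom.comp θ) ?_ hτ ?_ ?_ ?_ ?_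
      (fun R hR h2 => core_H0 hR h2)
    · intro d hd
      have h1 : γ.symm d * x = x * γ.symm d := by
        apply γ.injective
        rw [map_mul, map_mul, γ.apply_symm_apply]
        exact hd
      obtain ⟨i, hi⟩ := hs.act _ h1
      refine ⟨i, ?_⟩
      have h2 := congrArg γ hi
      rw [map_mul, map_mul, map_mul, map_inv, map_zpow, γ.apply_symm_apply] at h2
      exact h2
    · exact γ.injective.comp hinj
    · intro h
      show γ (θ h) * γ s = γ s * γ (θ h)
      rw [← map_mul, ← map_mul, hls]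
    · intro h
      show γ (θ h) * γ x = γ x * γ (θ h)
      rw [← map_mul, ← map_mul, hlx]
    · intro h
      show γ (θ h) * KDone.K.ι KLinkInst.x₀ = KDone.K.ι KLinkInst.x₀ * γ (θ h)
      rw [← hτ]
      have h1 := congrArg γ (hlt h)
      rw [map_mul γ, map_mul γ] at h1
      exact h1
    · intro g h1 h2 h3
      have key : ∀ {a : MG}, g * γ a = γ a * g → γ.symm g * a = a * γ.symm g := by
        intro a ha
        apply γ.injective
        rw [map_mul, map_mul, γ.apply_symm_apply]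
        exact ha
      obtain ⟨h, hh⟩ := hsurj (γ.symm g) (key h1) (key h2) (key (by rw [hτ]; exact h3))
      refine ⟨h, ?_⟩
      show γ (θ h) = g
      rw [hh, γ.apply_symm_apply]

end Cfsg.Agent.H272.SK
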